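import Mathlib.RingTheory.Localization.Away.Basic
import Mathlib.Algebra.Polynomial.Derivative
import Mathlib.Algebra.Polynomial.RingDivision
import Mathlib.LinearAlgebra.Charpoly.Basic
import Mathlib.LinearAlgebra.Charpoly.ToMatrix
import Mathlib.RingTheory.Coprime.Lemmas
import Mathlib.LinearAlgebra.Determinant
import Mathlib.Data.Complex.Basic
import Mathlib.Tactic.Ring
import Mathlib.Tactic.LinearCombination

/-! Logarithmic derivations on `R[X]^d` with non-resonant residues. -/

set_option autoImplicit false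

open Polynomial

namespace GrothLib.LogDeriv

universe u

variable {R : Type u} [CommRing R] {d r : ℕ} {θ : Fin r → R} {Θ : R[X]}
  {D₀ : (Fin d → R[X]) →+ (Fin d → R[X])}
  {D : (Fin d → Localization.Away Θ) →+ (Fin d → Localization.Away Θ)}
  {Res : Fin r → ((Fin d → R) →ₗ[R] (Fin d → R))}

theorem derivative_eval (hΘ : Θ = ∏ i, (X - Polynomial.C (θ i))) (i : Fin r) :
    (derivative Θ).eval (θ i) = ∏ k ∈ Finset.univ.erase i, (θ i - θ k) := by
  classical
  subst hΘ
  rw [derivative_prod_finset, eval_finsetSum, Finset.sum_eq_single i]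
  · simp [eval_prod]
  · intro j _ hj
    rw [eval_mul, eval_prod, Finset.prod_eq_zero (Finset.mem_erase.2 ⟨hj.symm, Finset.mem_univ i⟩) (by simp),
      zero_mul]
  · simp

theorem eval_eq_zero_self (hΘ : Θ = ∏ i, (X - Polynomial.C (θ i))) (i : Fin r) : Θ.eval (θ i) = 0 := by
  subst hΘ
  rw [eval_prod]
  exact Finset.prod_eq_zero (Finset.mem_univ i) (by simp)

theorem eval_D₀ (hΘ : Θ = ∏ i, (X - Polynomial.C (θ i)))
    (hD₀ : ∀ (p : R[X]) (v : Fin d → R[X]), D₀ (p • v) = (Θ * derivative p) • v + p • D₀ v)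
    (hRes : ∀ (i : Fin r) (m : Fin d → R) (j : Fin d),
      (D₀ (fun j => Polynomial.C (m j)) j).eval (θ i) =
        (∏ k ∈ Finset.univ.erase i, (θ i - θ k)) * Res i m j)
    (v : Fin d → R[X]) (i : Fin r) (j : Fin d) :
    (D₀ v j).eval (θ i) = (∏ k ∈ Finset.univ.erase i, (θ i - θ k)) *
      Res i (fun j => (v j).eval (θ i)) j := by
  choose u hu using fun j => X_sub_C_dvd_sub_C_eval (a := θ i) (p := v j)
  have hv : v = (fun j => Polynomial.C ((v j).eval (θ i))) + (X - Polynomial.C (θ i)) • u := by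
    funext j
    rw [Pi.add_apply, Pi.smul_apply, smul_eq_mul, ← hu j]
    ring
  conv_lhs => rw [hv, map_add, hD₀]
  simp [eval_eq_zero_self hΘ, hRes]

/-- `u ↦ D₀ u - n Θ' u`, the operator induced on numerators of order `n`. -/
noncomputable def shifted (Θ : R[X]) (D₀ : (Fin d → R[X]) →+ (Fin d → R[X])) (n : ℕ) (v : Fin d → R[X]) :
    Fin d → R[X] :=
  D₀ v - ((n : R[X]) * derivative Θ) • v

theorem eval_shifted (hΘ : Θ = ∏ i, (X - Polynomial.C (θ i)))
    (hD₀ : ∀ (p : R[X]) (v : Fin d → R[X]), D₀ (p • v) = (Θ * derivative p) • v + p • D₀ v)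
    (hRes : ∀ (i : Fin r) (m : Fin d → R) (j : Fin d),
      (D₀ (fun j => Polynomial.C (m j)) j).eval (θ i) =
        (∏ k ∈ Finset.univ.erase i, (θ i - θ k)) * Res i m j)
    (n : ℕ) (v : Fin d → R[X]) (i : Fin r) :
    (fun j => (shifted Θ D₀ n v j).eval (θ i)) = (∏ k ∈ Finset.univ.erase i, (θ i - θ k)) •
      (Res i - (n : R) • LinearMap.id : (Fin d → R) →ₗ[R] (Fin d → R)) (fun j => (v j).eval (θ i)) := by
  funext j
  simp [shifted, eval_D₀ hΘ hD₀ hRes, derivative_eval hΘ]
  ring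

theorem bijective_res_sub [Algebra ℂ R]
    (hχ : ∀ i : Fin r, ∃ χ : ℂ[X], (Res i).charpoly = χ.map (algebraMap ℂ R) ∧
      ∀ n : ℤ, n ≠ 0 → χ.eval (n : ℂ) ≠ 0)
    (i : Fin r) {n : ℕ} (hn : 0 < n) :
    Function.Bijective (Res i - (n : R) • LinearMap.id : (Fin d → R) →ₗ[R] (Fin d → R)) := by
  classical
  obtain ⟨χ, h1, h2⟩ := hχ i
  rw [← Module.End.isUnit_iff, LinearMap.isUnit_iff_isUnit_det]
  have he : LinearMap.det ((n : R) • LinearMap.id - Res i : (Fin d → R) →ₗ[R] (Fin d → R)) =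
      algebraMap ℂ R (χ.eval (n : ℂ)) := by
    rw [← Polynomial.eval_map_apply, ← h1, map_natCast, LinearMap.eval_charpoly]
    rfl
  have hu : IsUnit (LinearMap.det ((n : R) • LinearMap.id - Res i : (Fin d → R) →ₗ[R] (Fin d → R))) := by
    rw [he]
    refine (isUnit_iff_ne_zero.2 ?_).map _
    simpa using h2 (n : ℤ) (by omega)
  rw [show (Res i - (n : R) • LinearMap.id : (Fin d → R) →ₗ[R] (Fin d → R)) =
    (-1 : R) • ((n : R) • LinearMap.id - Res i) by ext x j; simp, LinearMap.det_smul]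
  exact ((isUnit_one.neg).pow _).mul hu

theorem dvd_of_eval_eq_zero (hθ : ∀ i k, i ≠ k → IsUnit (θ i - θ k))
    (hΘ : Θ = ∏ i, (X - Polynomial.C (θ i))) {p : R[X]} (h : ∀ i, p.eval (θ i) = 0) : Θ ∣ p := by
  subst hΘ
  exact Fintype.prod_dvd_of_coprime (fun i k hik => isCoprime_X_sub_C_of_isUnit_sub (hθ i k hik))
    (fun i => dvd_iff_isRoot.2 (h i))

theorem exists_interpolate (hθ : ∀ i k, i ≠ k → IsUnit (θ i - θ k)) (a : Fin r → Fin d → R) :
    ∃ v : Fin d → R[X], ∀ i j, (v j).eval (θ i) = a i j := by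
  classical
  refine ⟨fun j => ∑ i, Polynomial.C (a i j * Ring.inverse (∏ k ∈ Finset.univ.erase i, (θ i - θ k))) *
    ∏ k ∈ Finset.univ.erase i, (X - Polynomial.C (θ k)), fun i j => ?_⟩
  rw [eval_finsetSum, Finset.sum_eq_single i]
  · have hu : IsUnit (∏ k ∈ Finset.univ.erase i, (θ i - θ k)) :=
      IsUnit.prod_iff.2 fun k hk => hθ i k (Finset.ne_of_mem_erase hk).symm
    simp [eval_prod, mul_assoc, Ring.inverse_mul_cancel _ hu]
  · intro l _ hl
    rw [eval_mul, eval_prod]
    exact mul_eq_zero_of_right _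
      (Finset.prod_eq_zero (Finset.mem_erase.2 ⟨hl.symm, Finset.mem_univ i⟩) (by simp))
  · simp

/-- `v / Θ ^ n`. -/
noncomputable def frac (Θ : R[X]) (n : ℕ) (v : Fin d → R[X]) : Fin d → Localization.Away Θ :=
  fun j => algebraMap R[X] (Localization.Away Θ) (v j) * IsLocalization.Away.invSelf Θ ^ n

theorem alg_pow_mul_inv (Θ : R[X]) (n : ℕ) :
    algebraMap R[X] (Localization.Away Θ) Θ ^ n * IsLocalization.Away.invSelf Θ ^ n = 1 := by
  rw [← mul_pow, IsLocalization.Away.mul_invSelf, one_pow]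

theorem exists_frac (w : Fin d → Localization.Away Θ) : ∃ (n : ℕ) (v : Fin d → R[X]), w = frac Θ n v := by
  classical
  choose n a ha using fun j => IsLocalization.Away.surj Θ (w j)
  refine ⟨∑ j, n j, fun j => a j * Θ ^ (∑ l ∈ Finset.univ.erase j, n l), funext fun j => ?_⟩
  have hN : ∑ l, n l = n j + ∑ l ∈ Finset.univ.erase j, n l :=
    (Finset.add_sum_erase _ _ (Finset.mem_univ j)).symm
  rw [frac, map_mul, map_pow, ← ha, hN]
  have h1 := alg_pow_mul_inv Θ (n j + ∑ l ∈ Finset.univ.erase j, n l)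
  rw [pow_add] at h1
  linear_combination (-(w j)) * h1

theorem frac_zero (Θ : R[X]) (v : Fin d → R[X]) :
    frac Θ 0 v = fun j => algebraMap R[X] (Localization.Away Θ) (v j) :=
  funext fun j => (mul_one _).symm.trans (congrArg _ (pow_zero _).symm) |>.symm

theorem frac_succ_smul (Θ : R[X]) (n : ℕ) (v : Fin d → R[X]) :
    frac Θ (n + 1) (Θ • v) = frac Θ n v := by
  funext j
  simp only [frac, Pi.smul_apply, smul_eq_mul, map_mul, pow_succ]
  linear_combination (algebraMap R[X] (Localization.Away Θ) (v j) * IsLocalization.Away.invSelf Θ ^ n) *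
    IsLocalization.Away.mul_invSelf (S := Localization.Away Θ) Θ

theorem D_frac
    (hD : ∀ (p : R[X]) (w : Fin d → Localization.Away Θ), D (p • w) = (Θ * derivative p) • w + p • D w)
    (hDD₀ : ∀ v : Fin d → R[X],
      D (fun j => algebraMap R[X] (Localization.Away Θ) (v j)) =
        fun j => algebraMap R[X] (Localization.Away Θ) (D₀ v j))
    (n : ℕ) (v : Fin d → R[X]) : D (frac Θ n v) = frac Θ n (shifted Θ D₀ n v) := by
  have h1 : (Θ ^ n) • frac Θ n v = fun j => algebraMap R[X] (Localization.Away Θ) (v j) := by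
    funext j
    rw [Pi.smul_apply, Algebra.smul_def, map_pow, frac]
    linear_combination (algebraMap R[X] (Localization.Away Θ) (v j)) * alg_pow_mul_inv Θ n
  have h2 := hD (Θ ^ n) (frac Θ n v)
  rw [h1, hDD₀] at h2
  have hd : Θ * derivative (Θ ^ n) = Θ ^ n * ((n : R[X]) * derivative Θ) := by
    rcases n with _ | n
    · simp
    · rw [derivative_pow, Nat.add_sub_cancel, map_natCast]; ring
  rw [hd] at h2
  funext j
  have h3 := congrFun h2 j
  simp only [Pi.add_apply, Pi.smul_apply] at h3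
  simp only [Algebra.smul_def, map_mul, map_pow, map_natCast] at h3
  simp only [frac, shifted, Pi.sub_apply, Pi.smul_apply, smul_eq_mul, map_sub, map_mul, map_natCast] at h3 ⊢
  linear_combination (-(IsLocalization.Away.invSelf Θ ^ n : Localization.Away Θ)) * h3 -
    (D (frac Θ n v) j + (n : Localization.Away Θ) * algebraMap R[X] (Localization.Away Θ) (derivative Θ) *
      algebraMap R[X] (Localization.Away Θ) (v j) * IsLocalization.Away.invSelf Θ ^ n) * alg_pow_mul_inv Θ n

theorem frac_injective (n : ℕ) [IsDomain R] (hΘ0 : Θ ≠ 0) :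
    Function.Injective (frac Θ n : (Fin d → R[X]) → _) := by
  intro v w h
  funext j
  apply IsLocalization.injective (Localization.Away Θ)
    (powers_le_nonZeroDivisors_of_noZeroDivisors hΘ0)
  have h1 := congrFun h j
  simp only [frac] at h1
  linear_combination (algebraMap R[X] (Localization.Away Θ) Θ ^ n) * h1 -
    (algebraMap R[X] (Localization.Away Θ) (v j) - algebraMap R[X] (Localization.Away Θ) (w j)) *
      alg_pow_mul_inv Θ n

theorem exists_eq_D_add [Algebra ℂ R] (hθ : ∀ i k, i ≠ k → IsUnit (θ i - θ k))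
    (hΘ : Θ = ∏ i, (X - Polynomial.C (θ i)))
    (hD₀ : ∀ (p : R[X]) (v : Fin d → R[X]), D₀ (p • v) = (Θ * derivative p) • v + p • D₀ v)
    (hD : ∀ (p : R[X]) (w : Fin d → Localization.Away Θ), D (p • w) = (Θ * derivative p) • w + p • D w)
    (hDD₀ : ∀ v : Fin d → R[X],
      D (fun j => algebraMap R[X] (Localization.Away Θ) (v j)) =
        fun j => algebraMap R[X] (Localization.Away Θ) (D₀ v j))
    (hRes : ∀ (i : Fin r) (m : Fin d → R) (j : Fin d),
      (D₀ (fun j => Polynomial.C (m j)) j).eval (θ i) =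
        (∏ k ∈ Finset.univ.erase i, (θ i - θ k)) * Res i m j)
    (hχ : ∀ i : Fin r, ∃ χ : ℂ[X], (Res i).charpoly = χ.map (algebraMap ℂ R) ∧
      ∀ n : ℤ, n ≠ 0 → χ.eval (n : ℂ) ≠ 0)
    (n : ℕ) : ∀ v : Fin d → R[X], ∃ (w' : Fin d → Localization.Away Θ) (p : Fin d → R[X]),
      frac Θ n v = D w' + fun j => algebraMap R[X] (Localization.Away Θ) (p j) := by
  induction n with
  | zero => exact fun v => ⟨0, v, by rw [map_zero, zero_add, frac_zero]⟩
  | succ n ih =>
    intro v
    have hc : ∀ i, IsUnit (∏ k ∈ Finset.univ.erase i, (θ i - θ k)) := fun i =>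
      IsUnit.prod_iff.2 fun k hk => hθ i k (Finset.ne_of_mem_erase hk).symm
    choose a ha using fun i => (bijective_res_sub hχ i n.succ_pos).2
      (Ring.inverse (∏ k ∈ Finset.univ.erase i, (θ i - θ k)) • fun j => (v j).eval (θ i))
    obtain ⟨u, hu⟩ := exists_interpolate hθ a
    have hdiff : ∀ j, Θ ∣ v j - shifted Θ D₀ (n + 1) u j := fun j => dvd_of_eval_eq_zero hθ hΘ fun i => by
      have h := congrFun (eval_shifted hΘ hD₀ hRes (n + 1) u i) j
      rw [funext (hu i), ha i, smul_smul, Ring.mul_inverse_cancel _ (hc i), one_smul] at h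
      rw [eval_sub, h, sub_self]
    choose v' hv' using hdiff
    obtain ⟨w', p, hp⟩ := ih v'
    refine ⟨frac Θ (n + 1) u + w', p, ?_⟩
    rw [map_add, D_frac hD hDD₀, add_assoc, ← hp, ← frac_succ_smul Θ n v']
    funext j
    simp only [Pi.add_apply, frac, Pi.smul_apply, smul_eq_mul, ← hv', map_sub]
    ring

theorem mem_of_D_mem [Algebra ℂ R] [IsDomain R] (hθ : ∀ i k, i ≠ k → IsUnit (θ i - θ k))
    (hΘ : Θ = ∏ i, (X - Polynomial.C (θ i)))
    (hD₀ : ∀ (p : R[X]) (v : Fin d → R[X]), D₀ (p • v) = (Θ * derivative p) • v + p • D₀ v)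
    (hD : ∀ (p : R[X]) (w : Fin d → Localization.Away Θ), D (p • w) = (Θ * derivative p) • w + p • D w)
    (hDD₀ : ∀ v : Fin d → R[X],
      D (fun j => algebraMap R[X] (Localization.Away Θ) (v j)) =
        fun j => algebraMap R[X] (Localization.Away Θ) (D₀ v j))
    (hRes : ∀ (i : Fin r) (m : Fin d → R) (j : Fin d),
      (D₀ (fun j => Polynomial.C (m j)) j).eval (θ i) =
        (∏ k ∈ Finset.univ.erase i, (θ i - θ k)) * Res i m j)
    (hχ : ∀ i : Fin r, ∃ χ : ℂ[X], (Res i).charpoly = χ.map (algebraMap ℂ R) ∧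
      ∀ n : ℤ, n ≠ 0 → χ.eval (n : ℂ) ≠ 0)
    (n : ℕ) : ∀ v : Fin d → R[X],
      (∃ p : Fin d → R[X], D (frac Θ n v) = fun j => algebraMap R[X] (Localization.Away Θ) (p j)) →
      ∃ q : Fin d → R[X], frac Θ n v = fun j => algebraMap R[X] (Localization.Away Θ) (q j) := by
  induction n with
  | zero => exact fun v _ => ⟨v, frac_zero Θ v⟩
  | succ n ih =>
    rintro v ⟨p, hp⟩
    have hΘ0 : Θ ≠ 0 := by
      rw [hΘ]; exact Finset.prod_ne_zero_iff.2 fun i _ => X_sub_C_ne_zero _
    rw [D_frac hD hDD₀] at hp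
    have hsh : shifted Θ D₀ (n + 1) v = fun j => Θ ^ (n + 1) * p j := by
      apply frac_injective (n + 1) hΘ0
      rw [hp]
      funext j
      simp only [frac, map_mul, map_pow]
      linear_combination (-(algebraMap R[X] (Localization.Away Θ) (p j))) * alg_pow_mul_inv Θ (n + 1)
    have hzero : ∀ i, (fun j => (v j).eval (θ i)) = 0 := by
      intro i
      apply (bijective_res_sub hχ i n.succ_pos).1
      have hc : IsUnit (∏ k ∈ Finset.univ.erase i, (θ i - θ k)) :=
        IsUnit.prod_iff.2 fun k hk => hθ i k (Finset.ne_of_mem_erase hk).symm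
      have h := eval_shifted hΘ hD₀ hRes (n + 1) v i
      rw [hsh] at h
      rw [map_zero]
      funext j
      have hj := congrFun h j
      simp [eval_eq_zero_self hΘ] at hj
      rcases hj with hj | hj
      · exact absurd hj hc.ne_zero
      · simpa using hj
    choose v' hv' using fun j => dvd_of_eval_eq_zero hθ hΘ fun i => congrFun (hzero i) j
    have hv : v = Θ • v' := funext hv'
    rw [hv, frac_succ_smul]
    refine ih v' ⟨p, ?_⟩
    rw [← hp, ← D_frac hD hDD₀, hv, frac_succ_smul]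

end GrothLib.LogDeriv
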